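import Groth.Agent.IntBC.Branch
import Groth.Agent.BrnchLib.GeomNormalFib

/-!
# Geometric branches along flat local homomorphisms with geometrically unibranch fibres of normalization

The geometric branches of a local ring are the geometric points of its normalization over the closed point.
Along a flat local homomorphism `A → B` they correspond bijectively as soon as the base change of the
normalization of `A` to `B` has geometrically unibranch local rings over the closed point.
-/

set_option autoImplicit false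
set_option linter.style.haveILetI false
set_option maxHeartbeats 800000
set_option synthInstance.maxHeartbeats 200000
set_option backward.isDefEq.respectTransparency false
set_option backward.isDefEq.respectTransparency.types false

noncomputable section

namespace Groth.Agent.BranchBC

universe u

open IsLocalRing TensorProduct

/-- Extension of a point along an integral map. -/
theorem exists_extend {R S Ω : Type u} [CommRing R] [CommRing S] [Field Ω] [IsAlgClosed Ω]
    (h : R →+* S) (hint : h.IsIntegral) (f : R →+* Ω) (hker : ∀ r, h r = 0 → f r = 0) :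
    ∃ g : S →+* Ω, g.comp h = f := by
  letI := h.toAlgebra
  haveI : Algebra.IsIntegral R S := ⟨hint⟩
  haveI : (RingHom.ker f).IsPrime := RingHom.ker_isPrime f
  obtain ⟨Q, -, hQp, hQ⟩ := Ideal.exists_ideal_over_prime_of_isIntegral (RingHom.ker f) (⊥ : Ideal S)
    fun r hr => hker r hr
  haveI := hQp
  let f' : R ⧸ RingHom.ker f →+* Ω := RingHom.kerLift f
  let h' : R ⧸ RingHom.ker f →+* S ⧸ Q := Ideal.quotientMap Q h hQ.ge
  letI := f'.toAlgebra
  letI := h'.toAlgebra
  have hinj : Function.Injective h' := Ideal.quotientMap_injective' hQ.le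
  haveI : FaithfulSMul (R ⧸ RingHom.ker f) (S ⧸ Q) := (faithfulSMul_iff_algebraMap_injective _ _).2 hinj
  haveI : FaithfulSMul (R ⧸ RingHom.ker f) Ω :=
    (faithfulSMul_iff_algebraMap_injective _ _).2 (RingHom.kerLift_injective f)
  haveI : Algebra.IsAlgebraic (R ⧸ RingHom.ker f) (S ⧸ Q) := by
    haveI : Algebra.IsIntegral (R ⧸ RingHom.ker f) (S ⧸ Q) := ⟨RingHom.IsIntegral.tower_top
      (Ideal.Quotient.mk (RingHom.ker f)) h'
      (by
        rw [show h'.comp (Ideal.Quotient.mk (RingHom.ker f)) = (Ideal.Quotient.mk Q).comp h from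
          RingHom.ext fun _ => rfl]
        exact hint.trans _ _ (RingHom.isIntegral_of_surjective _ Ideal.Quotient.mk_surjective))⟩
    exact Algebra.IsIntegral.isAlgebraic
  let g : S ⧸ Q →ₐ[R ⧸ RingHom.ker f] Ω := IsAlgClosed.lift
  exact ⟨g.toRingHom.comp (Ideal.Quotient.mk Q), RingHom.ext fun r => g.commutes (Ideal.Quotient.mk _ r)⟩

/-- Two points of a birational integral extension with the same restriction coincide when the local ring
at the restricted point has a radicial normal model. -/
theorem point_ext {T S Ω : Type u} [CommRing T] [CommRing S] [Field Ω] [IsAlgClosed Ω]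
    (ψ : T →+* S) (hint : ψ.IsIntegral) (hnil : ∀ t, ψ t = 0 → IsNilpotent t)
    (hfrac : ∀ y : S, ∃ r s : T, ψ s ∈ nonZeroDivisors S ∧ y * ψ s = ψ r)
    (φ₁ φ₂ : S →+* Ω) (h : φ₁.comp ψ = φ₂.comp ψ) (P : Ideal T) [P.IsPrime]
    (hP : RingHom.ker (φ₁.comp ψ) = P) (hbr : IntBC.Branch (Localization.AtPrime P)) : φ₁ = φ₂ := by
  obtain ⟨D, _, _, _, _, hD, hDker, hDint, hDins⟩ := hbr
  let U := φ₁.comp ψ
  have hU : ∀ t, U t = 0 ↔ t ∈ P := fun t => by rw [← hP]; rfl
  let TP := Localization.AtPrime P
  let χ : T →+* D := (algebraMap TP D).comp (algebraMap T TP)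
  let F := FractionRing D
  let χF : T →+* F := (algebraMap D F).comp χ
  have hF := IsFractionRing.injective D F
  have hker : ∀ t, χ t = 0 → ∃ m ∉ P, ∃ n : ℕ, m * t ^ n = 0 := fun t ht => by
    obtain ⟨n, hn⟩ := hDker _ ht
    rw [← map_pow] at hn
    obtain ⟨⟨m, hm⟩, hmn⟩ := (IsLocalization.map_eq_zero_iff P.primeCompl TP _).1 hn
    exact ⟨m, hm, n, hmn⟩
  have hreg : ∀ s, ψ s ∈ nonZeroDivisors S → χF s ≠ 0 := fun s hs h0 => by
    obtain ⟨m, hm, n, hmn⟩ := hker s (hF (h0.trans (map_zero _).symm))
    have h1 : ψ m * ψ s ^ n = 0 := by rw [← map_pow, ← map_mul, hmn, map_zero]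
    exact hm (nilradical_le_prime P (mem_nilradical.2 (hnil m
      ((mem_nonZeroDivisors_iff_right.1 (pow_mem hs n)) _ h1))))
  choose r s hs hrs using hfrac
  let η₀ : S → F := fun y => χF (r y) / χF (s y)
  have hη₀ : ∀ y r' s', ψ s' ∈ nonZeroDivisors S → y * ψ s' = ψ r' → η₀ y * χF s' = χF r' := by
    intro y r' s' hs' he
    have h0 : ψ (r y * s' - r' * s y) = 0 := by
      rw [map_sub, map_mul, map_mul, ← hrs, ← he]; ring
    have h1 := ((hnil _ h0).map χF).eq_zero
    rw [map_sub, map_mul, map_mul, sub_eq_zero] at h1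
    show χF (r y) / χF (s y) * χF s' = χF r'
    rw [div_mul_eq_mul_div, h1, mul_div_cancel_right₀ _ (hreg _ (hs y))]
  have hη : ∀ y, η₀ y * χF (s y) = χF (r y) := fun y => hη₀ y _ _ (hs y) (hrs y)
  let η : S →+* F :=
    { toFun := η₀
      map_one' := by
        have := hη₀ 1 1 1 (by rw [map_one]; exact one_mem _) (by rw [map_one, one_mul])
        rwa [map_one, mul_one] at this
      map_mul' := fun a b => by
        have h1 := hη₀ (a * b) (r a * r b) (s a * s b) (by rw [map_mul]; exact mul_mem (hs a) (hs b))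
          (by rw [map_mul, map_mul, ← hrs, ← hrs]; ring)
        rw [map_mul, map_mul, ← hη a, ← hη b] at h1
        exact mul_right_cancel₀ (mul_ne_zero (hreg _ (hs a)) (hreg _ (hs b)))
          (h1.trans (by ring))
      map_zero' := by
        have := hη₀ 0 0 1 (by rw [map_one]; exact one_mem _) (by rw [map_one, map_zero, zero_mul])
        rwa [map_one, map_zero, mul_one] at this
      map_add' := fun a b => by
        have h1 := hη₀ (a + b) (r a * s b + r b * s a) (s a * s b) (by rw [map_mul]; exact mul_mem (hs a) (hs b))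
          (by rw [map_add, map_mul, map_mul, map_mul, ← hrs, ← hrs]; ring)
        rw [map_add, map_mul, map_mul, map_mul, ← hη a, ← hη b] at h1
        exact mul_right_cancel₀ (mul_ne_zero (hreg _ (hs a)) (hreg _ (hs b)))
          (h1.trans (by ring)) }
  have hηψ : ∀ t, η (ψ t) = χF t := fun t => by
    have := hη₀ (ψ t) t 1 (by rw [map_one]; exact one_mem _) (by rw [map_one, mul_one])
    rwa [map_one, mul_one] at this
  have hex : ∀ y : S, ∃ d : D, algebraMap D F d = η y := fun y => by
    obtain ⟨p, hp, he⟩ := hint y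
    haveI := hD
    refine IsIntegrallyClosed.isIntegral_iff.mp ⟨p.map χ, hp.map _, ?_⟩
    rw [Polynomial.eval₂_map, show (algebraMap D F).comp χ = η.comp ψ from RingHom.ext fun t => (hηψ t).symm,
      ← Polynomial.hom_eval₂, he, map_zero]
  choose j hj using hex
  let hh : S →+* D :=
    { toFun := j
      map_one' := hF (by rw [hj, map_one, map_one])
      map_mul' := fun a b => hF (by rw [hj, map_mul, map_mul, hj, hj])
      map_zero' := hF (by rw [hj, map_zero, map_zero])
      map_add' := fun a b => hF (by rw [hj, map_add, map_add, hj, hj]) }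
  have hhT : hh.comp ψ = χ := RingHom.ext fun t => hF ((hj _).trans (hηψ t))
  let M : Submonoid S := P.primeCompl.map ψ
  let SM := Localization M
  let hM : SM →+* D := IsLocalization.lift (M := M) (g := hh) (by
    rintro ⟨_, m, hm, rfl⟩
    show IsUnit ((hh.comp ψ) m)
    rw [hhT]
    exact (IsLocalization.map_units TP (⟨m, hm⟩ : P.primeCompl)).map (algebraMap TP D))
  let iM : TP →+* SM := IsLocalization.map SM ψ (M := P.primeCompl) (T := M)
    (Submonoid.le_comap_map P.primeCompl (f := ψ))
  have hcompM : hM.comp iM = algebraMap TP D := IsLocalization.ringHom_ext P.primeCompl (RingHom.ext fun t => by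
    show hM (iM (algebraMap T TP t)) = χ t
    rw [IsLocalization.map_eq, IsLocalization.lift_eq]
    exact RingHom.congr_fun hhT t)
  have hMint : hM.IsIntegral := RingHom.IsIntegral.tower_top iM hM (by rw [hcompM]; exact hDint.isIntegral)
  have hval : ∀ (φ : S →+* Ω), φ.comp ψ = U → ∃ W : D →+* Ω, W.comp hh = φ ∧ W.comp χ = U := fun φ hφ => by
    have hunit : ∀ m : M, IsUnit (φ m) := by
      rintro ⟨_, m, hm, rfl⟩
      rw [show φ (ψ m) = U m from RingHom.congr_fun hφ m, isUnit_iff_ne_zero]
      exact fun h0 => hm ((hU m).1 h0)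
    let φM : SM →+* Ω := IsLocalization.lift (M := M) (g := φ) hunit
    have hkM : ∀ z, hM z = 0 → φM z = 0 := fun z hz => by
      obtain ⟨⟨y, m⟩, hym⟩ := IsLocalization.surj M z
      have hy : hh y = 0 := by
        rw [← IsLocalization.lift_eq (M := M) (S := SM) (g := hh) _ y, ← hym, map_mul]
        show hM z * _ = 0
        rw [hz, zero_mul]
      suffices h0 : φ y = 0 by
        have h1 : φM z * φM (algebraMap S SM m) = 0 := by
          rw [← map_mul, hym, IsLocalization.lift_eq, h0]
        rw [IsLocalization.lift_eq] at h1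
        exact (hunit m).mul_left_eq_zero.1 h1
      have hr0 : χ (r y) = 0 := by
        rw [← hhT, RingHom.comp_apply, ← hrs, map_mul, hy, zero_mul]
      obtain ⟨m', hm', n, hmn⟩ := hker _ hr0
      have h2 : ψ m' * y ^ n = 0 := by
        have h3 : ψ m' * y ^ n * ψ (s y) ^ n = 0 := by
          rw [mul_assoc, ← mul_pow, hrs, ← map_pow, ← map_mul, hmn, map_zero]
        exact (mem_nonZeroDivisors_iff_right.1 (pow_mem (hs y) n)) _ h3
      have h4 : U m' * φ y ^ n = 0 := by
        rw [← hφ, RingHom.comp_apply, ← map_pow, ← map_mul, h2, map_zero]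
      exact eq_zero_of_pow_eq_zero ((mul_eq_zero.1 h4).resolve_left fun h0 => hm' ((hU m').1 h0))
    obtain ⟨W, hW⟩ := exists_extend hM hMint φM hkM
    have hWh : W.comp hh = φ := RingHom.ext fun y => by
      show W (hh y) = φ y
      rw [← IsLocalization.lift_eq (M := M) (S := SM) (g := φ) hunit y,
        ← IsLocalization.lift_eq (M := M) (S := SM) (g := hh) _ y]
      exact RingHom.congr_fun hW _
    exact ⟨W, hWh, by rw [← hhT, ← RingHom.comp_assoc, hWh, hφ]⟩
  obtain ⟨W₁, hW₁, hW₁'⟩ := hval φ₁ rfl
  obtain ⟨W₂, hW₂, hW₂'⟩ := hval φ₂ h.symm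
  have hkerW : ∀ W : D →+* Ω, W.comp χ = U → RingHom.ker W = maximalIdeal D := fun W hW => by
    haveI := hDint
    haveI : (RingHom.ker W).IsPrime := RingHom.ker_isPrime W
    have h1 : Ideal.comap (algebraMap T TP) (Ideal.comap (algebraMap TP D) (RingHom.ker W)) = P := by
      rw [Ideal.comap_comap, RingHom.comap_ker]
      exact (congrArg RingHom.ker hW).trans hP
    have h2 : Ideal.comap (algebraMap TP D) (RingHom.ker W) = maximalIdeal TP := by
      rw [← IsLocalization.map_under P.primeCompl TP (Ideal.comap (algebraMap TP D) (RingHom.ker W)),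
        Ideal.under_def, h1, Localization.AtPrime.map_eq_maximalIdeal]
    exact IsLocalRing.eq_maximalIdeal (Ideal.isMaximal_of_isIntegral_of_isMaximal_comap (R := TP)
      (RingHom.ker W) (h2 ▸ maximalIdeal.isMaximal TP))
  let W' : ResidueField D →+* Ω := Ideal.Quotient.lift (maximalIdeal D) W₁ fun d hd => by
    rwa [← RingHom.mem_ker, hkerW W₁ hW₁']
  let c := ringExpChar (ResidueField D)
  haveI : ExpChar (ResidueField D) c := ringExpChar.expChar _
  haveI : ExpChar Ω c := (RingHom.expChar_iff W' W'.injective c).1 inferInstance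
  have hW : W₁ = W₂ := RingHom.ext fun d => by
    obtain ⟨n, z, hz⟩ := hDins d
    obtain ⟨⟨t, m⟩, hts⟩ := IsLocalization.surj P.primeCompl z
    have hpow : ∀ W : D →+* Ω, W.comp χ = U → W d ^ c ^ n * U m = U t := fun W hWU => by
      have h1 : W (d ^ c ^ n) = W (algebraMap TP D z) := by
        rw [← sub_eq_zero, ← map_sub, ← RingHom.mem_ker, hkerW W hWU]; exact hz
      rw [← map_pow, h1, ← hWU, RingHom.comp_apply, RingHom.comp_apply, ← map_mul]
      show W (algebraMap TP D z * algebraMap TP D (algebraMap T TP m)) = W (algebraMap TP D (algebraMap T TP t))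
      rw [← map_mul (algebraMap TP D), hts]
    have h3 := mul_right_cancel₀ (fun h0 => m.2 ((hU m).1 h0)) ((hpow W₁ hW₁').trans (hpow W₂ hW₂').symm)
    rw [← sub_eq_zero, ← sub_pow_expChar_pow] at h3
    exact sub_eq_zero.1 (eq_zero_of_pow_eq_zero h3)
  rw [← hW₁, ← hW₂, hW]

variable (A : Type u) [CommRing A] [IsLocalRing A]

/-- Geometric branches are the points of the normalization over the closed point. -/
theorem numGeomBranches_eq_card (hA : (minimalPrimes A).Finite) (Ω : Type u) [Field Ω] [IsAlgClosed Ω]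
    (w : A →+* Ω) (hw : RingHom.ker w = maximalIdeal A) :
    Brnch.numGeomBranches A =
      ENat.card {φ : CAlg2.normRed A →+* Ω // φ.comp (algebraMap A (CAlg2.normRed A)) = w} := by
  have hwmax : (RingHom.ker w).IsMaximal := hw ▸ maximalIdeal.isMaximal A
  letI : Algebra (ResidueField A) Ω := (Ideal.Quotient.lift (maximalIdeal A) w fun a ha => by
    rwa [← RingHom.mem_ker, hw]).toAlgebra
  let K := AlgebraicClosure (ResidueField A)
  let i : K →ₐ[ResidueField A] Ω := IsAlgClosed.lift
  have hi : i.toRingHom.comp (Brnch.toClosure A) = w := RingHom.ext fun a => i.commutes (residue A a)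
  have hres : ∀ m : MaximalSpectrum (CAlg2.normRed A),
      Brnch.toResidue A m = (Ideal.Quotient.mk m.asIdeal).comp (algebraMap A (CAlg2.normRed A)) := fun m =>
    congrArg (RingHom.comp _) (IsScalarTower.algebraMap_eq A (CAlg2.red A) (CAlg2.normRed A)).symm
  rw [Brnch.numGeomBranches, if_pos hA, ← ENat.card_congr (BrnchLib.pointsEquiv (B := CAlg2.normRed A) w hwmax)]
  refine ENat.card_congr (Equiv.sigmaCongrRight fun m => Equiv.ofBijective
    (fun σ => ⟨i.toRingHom.comp σ.1, by
      rw [RingHom.comp_assoc, ← hres, σ.2, hi]⟩) ⟨fun σ τ h => ?_, fun φ => ?_⟩)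
  · have h' := congrArg Subtype.val h
    exact Subtype.ext (RingHom.ext fun x => i.toRingHom.injective (RingHom.congr_fun h' x))
  · have hmem : ∀ x, ∃ z : K, i z = φ.1 x := fun x => by
      obtain ⟨y, rfl⟩ := Ideal.Quotient.mk_surjective x
      obtain ⟨P, hP, hP0⟩ := Algebra.IsIntegral.isIntegral (R := A) y
      letI := i.toRingHom.toAlgebra
      have hint : IsIntegral K (φ.1 (Ideal.Quotient.mk _ y)) := by
        refine ⟨P.map (Brnch.toClosure A), hP.map _, ?_⟩
        rw [Polynomial.eval₂_map, show (algebraMap K Ω).comp (Brnch.toClosure A) =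
            (φ.1.comp (Ideal.Quotient.mk m.asIdeal)).comp (algebraMap A (CAlg2.normRed A)) from
          hi.trans φ.2.symm,
          show φ.1 (Ideal.Quotient.mk m.asIdeal y) = (φ.1.comp (Ideal.Quotient.mk m.asIdeal)) y from rfl,
          ← Polynomial.hom_eval₂, hP0, map_zero]
      exact minpoly.mem_range_of_degree_eq_one K _
        (IsAlgClosed.degree_eq_one_of_irreducible K (minpoly.irreducible hint))
    choose z hz using hmem
    let σ : CAlg2.normRed A ⧸ m.asIdeal →+* K :=
      { toFun := z
        map_one' := i.toRingHom.injective (by show i _ = i _; rw [hz, map_one, map_one])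
        map_mul' := fun a b => i.toRingHom.injective (by show i _ = i _; rw [hz, map_mul, map_mul, hz, hz])
        map_zero' := i.toRingHom.injective (by show i _ = i _; rw [hz, map_zero, map_zero])
        map_add' := fun a b => i.toRingHom.injective (by show i _ = i _; rw [hz, map_add, map_add, hz, hz]) }
    refine ⟨⟨σ, RingHom.ext fun a => i.toRingHom.injective ?_⟩, Subtype.ext (RingHom.ext fun x => hz x)⟩
    show i (z (Brnch.toResidue A m a)) = i (Brnch.toClosure A a)
    rw [hz, hres]
    exact (RingHom.congr_fun φ.2 a).trans (RingHom.congr_fun hi a).symm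

variable (B : Type u) [CommRing B] [IsLocalRing B] [Algebra A B] [Module.Flat A B] [IsLocalHom (algebraMap A B)]

/-- The geometric branches are the same when the base change of the normalization has geometrically
unibranch local rings over the closed point. -/
theorem numGeomBranches_eq_of_branch (hA : (minimalPrimes A).Finite) (hB : (minimalPrimes B).Finite)
    (hT : ∀ (P : Ideal (B ⊗[A] CAlg2.normRed A)) [P.IsPrime],
      P.comap (algebraMap B (B ⊗[A] CAlg2.normRed A)) = maximalIdeal B → IntBC.Branch (Localization.AtPrime P)) :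
    Brnch.numGeomBranches A = Brnch.numGeomBranches B := by
  let Ω := AlgebraicClosure (ResidueField B)
  let w : B →+* Ω := Brnch.toClosure B
  have hw : RingHom.ker w = maximalIdeal B := by
    show RingHom.ker ((algebraMap (ResidueField B) Ω).comp (residue B)) = _
    rw [RingHom.ker_comp_of_injective _ (algebraMap (ResidueField B) Ω).injective]
    exact Ideal.mk_ker
  have hwA : RingHom.ker (w.comp (algebraMap A B)) = maximalIdeal A := by
    rw [← RingHom.comap_ker, hw]
    exact maximalIdeal_comap (algebraMap A B)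
  rw [numGeomBranches_eq_card A hA Ω _ hwA, numGeomBranches_eq_card B hB Ω w hw]
  let A' := CAlg2.normRed A
  let B' := CAlg2.normRed B
  let T := B ⊗[A] A'
  -- the reduction of `A` maps regular elements to regular elements
  let gr : CAlg2.red A →+* CAlg2.red B :=
    Ideal.quotientMap _ (algebraMap A B) fun a ha => (mem_nilradical.mp ha).map (algebraMap A B)
  haveI := hA.to_subtype
  haveI := hB.to_subtype
  haveI : IsReduced (CAlg2.red A) := (Ideal.isRadical_iff_quotient_reduced _).1 (Ideal.radical_isRadical _)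
  haveI : IsReduced (CAlg2.red B) := (Ideal.isRadical_iff_quotient_reduced _).1 (Ideal.radical_isRadical _)
  have hgr : ∀ s ∈ nonZeroDivisors (CAlg2.red A), gr s ∈ nonZeroDivisors (CAlg2.red B) := fun s hs => by
    obtain ⟨a, rfl⟩ := Ideal.Quotient.mk_surjective s
    rw [mem_nonZeroDivisors_iff_right]
    intro x hx
    obtain ⟨b, rfl⟩ := Ideal.Quotient.mk_surjective x
    rw [show gr (Ideal.Quotient.mk _ a) = Ideal.Quotient.mk _ (algebraMap A B a) from rfl, ← map_mul,
      Ideal.Quotient.eq_zero_iff_mem, nilradical, Ideal.zero_eq_bot, ← Ideal.sInf_minimalPrimes] at hx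
    rw [Ideal.Quotient.eq_zero_iff_mem, nilradical, Ideal.zero_eq_bot, ← Ideal.sInf_minimalPrimes]
    refine Submodule.mem_sInf.2 fun P hP => ?_
    haveI := hP.1.1
    refine (hP.1.1.mem_or_mem (Submodule.mem_sInf.1 hx P hP)).resolve_right fun h => ?_
    have hmin := BrnchLib.comap_mem_minimalPrimes_flat A hP
    obtain ⟨q, hq, hqle⟩ : ∃ q ∈ minimalPrimes (CAlg2.red A),
        Ideal.comap (Ideal.Quotient.mk (nilradical A)) q ≤ Ideal.comap (algebraMap A B) P := by
      haveI := hmin.1.1
      let q := Ideal.map (Ideal.Quotient.mk (nilradical A)) (Ideal.comap (algebraMap A B) P)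
      have hle : RingHom.ker (Ideal.Quotient.mk (nilradical A)) ≤ Ideal.comap (algebraMap A B) P := by
        rw [Ideal.mk_ker]; exact nilradical_le_prime _
      haveI : q.IsPrime := Ideal.map_isPrime_of_surjective Ideal.Quotient.mk_surjective hle
      obtain ⟨q₀, hq₀, hq₀le⟩ := Ideal.exists_minimalPrimes_le (I := (⊥ : Ideal (CAlg2.red A))) (J := q) bot_le
      refine ⟨q₀, hq₀, (Ideal.comap_mono hq₀le).trans ?_⟩
      rw [Ideal.comap_map_of_surjective _ Ideal.Quotient.mk_surjective, ← RingHom.ker_eq_comap_bot,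
        sup_eq_left.2 hle]
    haveI := hq.1.1
    have hm : Ideal.Quotient.mk (nilradical A) a ∈ q :=
      (hmin.2 ⟨Ideal.IsPrime.comap _, bot_le⟩ hqle h : a ∈ Ideal.comap (Ideal.Quotient.mk (nilradical A)) q)
    exact Set.disjoint_left.1 (Ideal.disjoint_nonZeroDivisors_of_mem_minimalPrimes hq) hm hs
  let K := FractionRing (CAlg2.red A)
  let L := FractionRing (CAlg2.red B)
  let ι : K →+* L := IsLocalization.map L gr (T := nonZeroDivisors (CAlg2.red B))
    (fun s hs => hgr s hs : nonZeroDivisors (CAlg2.red A) ≤ _)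
  have hι : ∀ a, ι (algebraMap _ K a) = algebraMap _ L (gr a) := fun a => IsLocalization.map_eq _ a
  have hmem : ∀ x : A', ι x.1 ∈ integralClosure (CAlg2.red B) L := fun x => by
    obtain ⟨P, hP, he⟩ := (x.2 : IsIntegral (CAlg2.red A) (x.1 : K))
    refine ⟨P.map gr, hP.map _, ?_⟩
    rw [Polynomial.eval₂_map, show (algebraMap (CAlg2.red B) L).comp gr = ι.comp (algebraMap _ K) from
      RingHom.ext fun a => (hι a).symm, ← Polynomial.hom_eval₂, he, map_zero]
  let ψ : A' →+* B' := (ι.comp (integralClosure (CAlg2.red A) K).val.toRingHom).codRestrict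
    (integralClosure (CAlg2.red B) L) hmem
  have hψ : ∀ a, ψ (algebraMap A A' a) = algebraMap B B' (algebraMap A B a) := fun a =>
    Subtype.ext (hι (Ideal.Quotient.mk _ a))
  letI : Algebra A B' := ((algebraMap B B').comp (algebraMap A B)).toAlgebra
  haveI : IsScalarTower A B B' := IsScalarTower.of_algebraMap_eq' rfl
  let ψA : A' →ₐ[A] B' := { ψ with commutes' := hψ }
  let ψT : T →ₐ[A] B' :=
    Algebra.TensorProduct.lift (IsScalarTower.toAlgHom A B B') ψA fun _ _ => Commute.all _ _
  let incR : B →+* T := algebraMap B T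
  have hψR : ∀ b, ψT (incR b) = algebraMap B B' b := fun b => by
    show algebraMap B B' b * ψ 1 = _
    rw [map_one, mul_one]
  have hψL : ∀ x, ψT ((1 : B) ⊗ₜ[A] x) = ψ x := fun x => by
    show algebraMap B B' 1 * ψ x = _
    rw [map_one, one_mul]
  -- every element of `T` becomes an element of `B` after multiplication by a regular element
  have hden : ∀ x : A', ∃ s a : A, IsSMulRegular A' s ∧ algebraMap A A' s * x = algebraMap A A' a := fun x => by
    obtain ⟨⟨a, s⟩, he⟩ := IsLocalization.surj (nonZeroDivisors (CAlg2.red A)) (x.1 : K)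
    obtain ⟨a, rfl⟩ := Ideal.Quotient.mk_surjective a
    obtain ⟨s₀, hs₀⟩ := Ideal.Quotient.mk_surjective (s : CAlg2.red A)
    refine ⟨s₀, a, fun y z h => Subtype.ext ?_, Subtype.ext ?_⟩
    · have h' : algebraMap A A' s₀ * y = algebraMap A A' s₀ * z := by
        rw [← Algebra.smul_def, ← Algebra.smul_def]; exact h
      have h'' : algebraMap (CAlg2.red A) K s * y.1 = algebraMap (CAlg2.red A) K s * z.1 := by
        rw [← hs₀]; exact congrArg Subtype.val h'
      exact (IsLocalization.map_units K s).mul_left_cancel h''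
    · show algebraMap (CAlg2.red A) K (Ideal.Quotient.mk _ s₀) * x.1 = _
      rw [hs₀, mul_comm]
      exact he
  have hfrac : ∀ z : T, ∃ (s : A) (b : B), IsSMulRegular A' s ∧ s • z = incR b := fun z => by
    induction z using TensorProduct.induction_on with
    | zero => exact ⟨1, 0, IsSMulRegular.one A', by rw [smul_zero, map_zero]⟩
    | tmul b x =>
      obtain ⟨s, a, hs, ha⟩ := hden x
      refine ⟨s, a • b, hs, ?_⟩
      rw [← tmul_smul, Algebra.smul_def, ha, Algebra.algebraMap_eq_smul_one, tmul_smul, smul_tmul']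
      rfl
    | add z₁ z₂ h₁ h₂ =>
      obtain ⟨s₁, b₁, hs₁, e₁⟩ := h₁
      obtain ⟨s₂, b₂, hs₂, e₂⟩ := h₂
      refine ⟨s₁ * s₂, s₂ • b₁ + s₁ • b₂, hs₁.mul hs₂, ?_⟩
      rw [smul_add, map_add, mul_comm s₁ s₂, mul_smul, e₁, mul_comm s₂ s₁, mul_smul, e₂]
      show s₂ • (b₁ ⊗ₜ[A] (1 : A')) + s₁ • (b₂ ⊗ₜ[A] (1 : A')) = (s₂ • b₁) ⊗ₜ (1 : A') + (s₁ • b₂) ⊗ₜ (1 : A')
      rw [smul_tmul', smul_tmul']
  have hkerB : ∀ b, algebraMap B B' b = 0 → IsNilpotent b := fun b hb =>
    Ideal.Quotient.eq_zero_iff_mem.mp (IsFractionRing.injective (CAlg2.red B) L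
      ((congrArg Subtype.val hb).trans (map_zero _).symm))
  have hnil : ∀ z : T, ψT z = 0 → IsNilpotent z := fun z hz => by
    obtain ⟨s, b, hs, hsb⟩ := hfrac z
    obtain ⟨n, hn⟩ := (hkerB b (by rw [← hψR, ← hsb, map_smul, hz, smul_zero])).map incR
    have key : ∀ t : T, (LinearMap.lsmul A A' s).lTensor B t = s • t := fun t => by
      induction t using TensorProduct.induction_on with
      | zero => simp
      | tmul p q => rw [LinearMap.lTensor_tmul, LinearMap.lsmul_apply, tmul_smul]
      | add p q hp hq => rw [map_add, hp, hq, smul_add]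
    have hreg : IsSMulRegular T s := fun y y' hy =>
      Module.Flat.lTensor_preserves_injective_linearMap (M := B) (LinearMap.lsmul A A' s) hs (by
        rw [key, key]; exact hy)
    refine ⟨n, hreg.pow n ?_⟩
    show s ^ n • z ^ n = s ^ n • (0 : T)
    rw [← smul_pow, hsb, hn, smul_zero]
  haveI : Algebra.IsIntegral B B' := inferInstance
  have hint : ψT.toRingHom.IsIntegral := by
    refine RingHom.IsIntegral.tower_top incR _ ?_
    rw [show ψT.toRingHom.comp incR = algebraMap B B' from RingHom.ext hψR]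
    exact Algebra.IsIntegral.isIntegral
  refine (ENat.card_congr (Equiv.ofBijective
    (fun φ => ⟨φ.1.comp ψ, RingHom.ext fun a => by
      show φ.1 (ψ (algebraMap A A' a)) = _
      rw [hψ]
      exact RingHom.congr_fun φ.2 _⟩) ⟨fun φ₁ φ₂ h => ?_, fun u => ?_⟩)).symm
  · -- injectivity
    have hU : φ₁.1.comp ψT.toRingHom = φ₂.1.comp ψT.toRingHom := Algebra.TensorProduct.ringHom_ext
      (RingHom.ext fun b => by
        show φ₁.1 (ψT (incR b)) = φ₂.1 (ψT (incR b))
        rw [hψR]
        exact (RingHom.congr_fun φ₁.2 b).trans (RingHom.congr_fun φ₂.2 b).symm)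
      (RingHom.ext fun x => by
        show φ₁.1 (ψT ((1 : B) ⊗ₜ x)) = φ₂.1 (ψT ((1 : B) ⊗ₜ x))
        rw [hψL]
        exact RingHom.congr_fun (congrArg Subtype.val h) x)
    haveI hPp : (RingHom.ker (φ₁.1.comp ψT.toRingHom)).IsPrime := RingHom.ker_isPrime _
    refine Subtype.ext (point_ext ψT.toRingHom hint hnil (fun y => ?_) φ₁.1 φ₂.1 hU _ rfl (hT _ ?_))
    · obtain ⟨⟨r, s⟩, hrs⟩ := IsLocalization.surj (nonZeroDivisors (CAlg2.red B)) (y.1 : L)
      obtain ⟨b, rfl⟩ := Ideal.Quotient.mk_surjective r
      obtain ⟨s', hs'⟩ := Ideal.Quotient.mk_surjective (s : CAlg2.red B)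
      refine ⟨incR b, incR s', ?_, ?_⟩
      · show ψT (incR s') ∈ nonZeroDivisors B'
        rw [hψR, mem_nonZeroDivisors_iff_right]
        intro z hz
        have hu : IsUnit ((algebraMap B B' s').1 : L) := IsLocalization.map_units L
          (⟨_, hs' ▸ s.2⟩ : nonZeroDivisors (CAlg2.red B))
        exact Subtype.ext (hu.mul_left_eq_zero.1 (congrArg Subtype.val hz))
      · show y * ψT (incR s') = ψT (incR b)
        rw [hψR, hψR]
        refine Subtype.ext ?_
        show y.1 * algebraMap (CAlg2.red B) L (Ideal.Quotient.mk _ s') = _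
        rw [hs']
        exact hrs
    · rw [RingHom.comap_ker, ← hw]
      congr 1
      refine RingHom.ext fun b => ?_
      show φ₁.1 (ψT (incR b)) = w b
      rw [hψR]; exact RingHom.congr_fun φ₁.2 b
  · -- surjectivity
    let U : T →+* Ω := by
      letI : Algebra A Ω := (w.comp (algebraMap A B)).toAlgebra
      exact (Algebra.TensorProduct.lift
        ({ w with commutes' := fun _ => rfl } : B →ₐ[A] Ω)
        ({ u.1 with commutes' := fun a => RingHom.congr_fun u.2 a } : A' →ₐ[A] Ω)
        fun _ _ => Commute.all _ _).toRingHom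
    obtain ⟨g, hg⟩ := exists_extend ψT.toRingHom hint U fun t ht => ((hnil t ht).map U).eq_zero
    refine ⟨⟨g, RingHom.ext fun b => ?_⟩, Subtype.ext (RingHom.ext fun x => ?_)⟩
    · show g (algebraMap B B' b) = w b
      rw [← hψR, show g (ψT (incR b)) = U (incR b) from RingHom.congr_fun hg (incR b)]
      show w b * u.1 1 = w b
      rw [map_one, mul_one]
    · show g (ψ x) = u.1 x
      rw [← hψL, show g (ψT ((1 : B) ⊗ₜ x)) = U ((1 : B) ⊗ₜ x) from RingHom.congr_fun hg ((1 : B) ⊗ₜ x)]
      show w 1 * u.1 x = u.1 x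
      rw [map_one, one_mul]

end Groth.Agent.BranchBC
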