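import Groth.Agent.BranchBC.Core
import Groth.Agent.IntBC.UnibranchField
import Groth.Agent.IntBC.UnibranchDescent
import Mathlib.RingTheory.Flat.Localization

/-!
# Geometric branches under extension of the base field
-/

set_option autoImplicit false
set_option linter.style.haveILetI false
set_option backward.isDefEq.respectTransparency false
set_option backward.isDefEq.respectTransparency.types false
set_option maxHeartbeats 800000
set_option synthInstance.maxHeartbeats 200000

noncomputable section

namespace Groth.Agent.BranchBC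

universe u

open IsLocalRing TensorProduct

/-- The local rings of the tensor product are local rings of a base change of a normal domain. -/
theorem branch_tensor_aux (k R K A A' A'' B TP : Type u) [Field k] [CommRing R] [Algebra k R] [Field K] [Algebra k K]
    [CommRing A] [Algebra R A] [CommRing B] [Algebra (R ⊗[k] K) B]
    [Algebra A B] (hAB : ∀ r, algebraMap A B (algebraMap R A r) = algebraMap (R ⊗[k] K) B (r ⊗ₜ[k] 1))
    (p : Ideal R) [p.IsPrime] [IsLocalization.AtPrime A p] (q : Ideal (R ⊗[k] K)) [q.IsPrime]
    [IsLocalization.AtPrime B q]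
    [CommRing A'] [Algebra A A'] [CommRing A''] [IsDomain A''] [IsIntegrallyClosed A''] [Algebra A' A'']
    [Algebra k A''] (hkA : ∀ a, algebraMap k A'' a = algebraMap A' A'' (algebraMap A A' (algebraMap R A (algebraMap k R a))))
    [CommRing TP] [IsLocalRing TP] [Algebra (B ⊗[A] A') TP]
    (P : Ideal (B ⊗[A] A')) [P.IsPrime] [IsLocalization.AtPrime TP P]
    (p' : Ideal A') [p'.IsPrime] [IsLocalization.AtPrime A'' p']
    (hp' : p' = Ideal.comap (Algebra.TensorProduct.includeRight (R := A) (A := B) (B := A')).toRingHom P) :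
    IntBC.Branch TP := by
  let T := B ⊗[A] A'
  let iA : A' →+* T := (Algebra.TensorProduct.includeRight (R := A) (A := B) (B := A')).toRingHom
  have hiA : ∀ a, iA (algebraMap A A' a) = algebraMap B T (algebraMap A B a) := fun a =>
    ((Algebra.TensorProduct.includeRight (R := A) (A := B) (B := A')).commutes a).trans
      (IsScalarTower.algebraMap_apply A B T a)
  let uA : A'' →+* TP := IsLocalization.lift (M := p'.primeCompl) (g := (algebraMap T TP).comp iA) fun m =>
    IsLocalization.map_units TP (⟨iA m, fun h => m.2 (show (m : A') ∈ p' from hp' ▸ h)⟩ : P.primeCompl)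
  have huA : ∀ x, uA (algebraMap A' A'' x) = algebraMap T TP (iA x) := fun x => IsLocalization.lift_eq _ x
  let uB : B →+* TP := (algebraMap T TP).comp (algebraMap B T)
  letI : Algebra k TP := (uA.comp (algebraMap k A'')).toAlgebra
  let sA : A'' →ₐ[k] TP := { uA with commutes' := fun _ => rfl }
  let sK : K →ₐ[k] TP :=
    { uB.comp ((algebraMap (R ⊗[k] K) B).comp
        (Algebra.TensorProduct.includeRight (R := k) (A := R) (B := K)).toRingHom) with
      commutes' := fun a => by
        show uB (algebraMap (R ⊗[k] K) B ((1 : R) ⊗ₜ[k] algebraMap k K a)) =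
          uA (algebraMap k A'' a)
        rw [hkA, huA, hiA, ← Algebra.TensorProduct.tmul_one_eq_one_tmul, ← hAB]
        rfl }
  let σ : K ⊗[k] A'' →ₐ[k] TP := Algebra.TensorProduct.lift sK sA fun _ _ => Commute.all _ _
  let Q : Ideal (K ⊗[k] A'') := Ideal.comap σ.toRingHom (maximalIdeal TP)
  haveI : Q.IsPrime := Ideal.IsPrime.comap _
  let L := Localization.AtPrime Q
  let e : L →+* TP := IsLocalization.lift (M := Q.primeCompl) (g := σ.toRingHom) fun m =>
    (notMem_maximalIdeal.1 m.2)
  have he : ∀ x, e (algebraMap _ L x) = σ x := fun x => IsLocalization.lift_eq _ x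
  haveI : IsLocalHom e := ⟨fun z hz => by
    obtain ⟨x, s, rfl⟩ := IsLocalization.exists_mk'_eq Q.primeCompl z
    rw [IsLocalization.AtPrime.isUnit_mk'_iff L Q]
    intro hx
    exact (notMem_maximalIdeal.2 (by
      have := hz.mul (IsUnit.map e (IsLocalization.map_units L s))
      rw [← map_mul, IsLocalization.mk'_spec, he] at this
      exact this)) hx⟩
  let vA : A' →+* L :=
    ((algebraMap (K ⊗[k] A'') L).comp
      (Algebra.TensorProduct.includeRight (R := k) (A := K) (B := A'')).toRingHom).comp (algebraMap A' A'')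
  have hvA : ∀ x, e (vA x) = algebraMap T TP (iA x) := fun x => by
    show e (algebraMap (K ⊗[k] A'') L ((1 : K) ⊗ₜ[k] algebraMap A' A'' x)) = _
    rw [he]
    show sK 1 * uA (algebraMap A' A'' x) = _
    rw [map_one, one_mul, huA]
  let rR : R →ₐ[k] K ⊗[k] A'' :=
    { ((Algebra.TensorProduct.includeRight (R := k) (A := K) (B := A'')).toRingHom.comp
        (algebraMap A' A'')).comp ((algebraMap A A').comp (algebraMap R A)) with
      commutes' := fun a => by
        show ((1 : K) ⊗ₜ[k] algebraMap A' A'' (algebraMap A A' (algebraMap R A (algebraMap k R a))) : K ⊗[k] A'') = _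
        rw [← hkA]
        exact (Algebra.TensorProduct.includeRight (R := k) (A := K) (B := A'')).commutes a }
  let rS : R ⊗[k] K →ₐ[k] K ⊗[k] A'' :=
    Algebra.TensorProduct.lift rR Algebra.TensorProduct.includeLeft fun _ _ => Commute.all _ _
  have hσS : σ.toRingHom.comp rS.toRingHom = uB.comp (algebraMap (R ⊗[k] K) B) :=
    Algebra.TensorProduct.ringHom_ext
      (RingHom.ext fun r => by
        show σ (rS (r ⊗ₜ 1)) = uB (algebraMap (R ⊗[k] K) B (r ⊗ₜ 1))
        rw [← hAB, show rS (r ⊗ₜ[k] (1 : K)) =
          ((1 : K) ⊗ₜ[k] algebraMap A' A'' (algebraMap A A' (algebraMap R A r))) from by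
            show rR r * ((1 : K) ⊗ₜ[k] (1 : A'')) = _
            rw [← Algebra.TensorProduct.one_def, mul_one]; rfl]
        show sK 1 * uA _ = _
        rw [map_one, one_mul, huA, hiA]; rfl)
      (RingHom.ext fun x => by
        show σ (rS (1 ⊗ₜ x)) = uB (algebraMap (R ⊗[k] K) B (1 ⊗ₜ x))
        rw [show rS ((1 : R) ⊗ₜ[k] x) = x ⊗ₜ[k] (1 : A'') from by
          show rR 1 * (x ⊗ₜ[k] (1 : A'')) = _
          rw [map_one, one_mul]]
        show sK x * uA 1 = _
        rw [map_one, mul_one]; rfl)
  let vB : B →+* L := IsLocalization.lift (M := q.primeCompl) (g := (algebraMap _ L).comp rS.toRingHom) fun m => by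
    refine isUnit_of_map_unit e _ ?_
    rw [RingHom.comp_apply, he, show σ (rS.toRingHom m) = uB (algebraMap (R ⊗[k] K) B m) from
      RingHom.congr_fun hσS m]
    exact (IsLocalization.map_units B m).map uB
  have hvB : e.comp vB = uB := IsLocalization.ringHom_ext q.primeCompl (RingHom.ext fun x => by
    show e (vB (algebraMap (R ⊗[k] K) B x)) = _
    rw [IsLocalization.lift_eq, RingHom.comp_apply, he]
    exact RingHom.congr_fun hσS x)
  letI : Algebra A L := (vA.comp (algebraMap A A')).toAlgebra
  have hA : ∀ a, vB (algebraMap A B a) = vA (algebraMap A A' a) := RingHom.congr_fun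
    (IsLocalization.ringHom_ext p.primeCompl (RingHom.ext fun r => by
      show vB (algebraMap A B (algebraMap R A r)) = vA (algebraMap A A' (algebraMap R A r))
      rw [hAB, IsLocalization.lift_eq]
      show algebraMap (K ⊗[k] A'') L (rS (r ⊗ₜ[k] (1 : K))) =
        algebraMap (K ⊗[k] A'') L ((1 : K) ⊗ₜ[k] algebraMap A' A'' (algebraMap A A' (algebraMap R A r)))
      congr 1
      show rR r * ((1 : K) ⊗ₜ[k] (1 : A'')) = _
      rw [← Algebra.TensorProduct.one_def, mul_one]; rfl) :
      vB.comp (algebraMap A B) = vA.comp (algebraMap A A'))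
  let τ : T →+* L := (Algebra.TensorProduct.lift ({ vB with commutes' := hA } : B →ₐ[A] L)
    ({ vA with commutes' := fun _ => rfl } : A' →ₐ[A] L) fun _ _ => Commute.all _ _).toRingHom
  have hτ : e.comp τ = algebraMap T TP := Algebra.TensorProduct.ringHom_ext
    (RingHom.ext fun b => by
      show e (vB b * vA 1) = algebraMap T TP (b ⊗ₜ 1)
      rw [map_one, mul_one]
      exact RingHom.congr_fun hvB b)
    (RingHom.ext fun x => by
      show e (vB 1 * vA x) = _
      rw [map_one, one_mul, hvA]; rfl)
  let τ' : TP →+* L := IsLocalization.lift (M := P.primeCompl) (g := τ) fun m => by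
    refine isUnit_of_map_unit e _ ?_
    rw [show e (τ m) = algebraMap T TP m from RingHom.congr_fun hτ m]
    exact IsLocalization.map_units TP m
  have h1 : e.comp τ' = RingHom.id TP := IsLocalization.ringHom_ext P.primeCompl (RingHom.ext fun t => by
    show e (τ' (algebraMap T TP t)) = algebraMap T TP t
    rw [IsLocalization.lift_eq]
    exact RingHom.congr_fun hτ t)
  have hτ'B : ∀ b, τ' (uB b) = vB b := fun b => by
    show τ' (algebraMap T TP (b ⊗ₜ[A] 1)) = _
    rw [IsLocalization.lift_eq]
    show vB b * vA 1 = _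
    rw [map_one, mul_one]
  have hτ'A : ∀ x, τ' (algebraMap T TP (iA x)) = vA x := fun x => by
    rw [IsLocalization.lift_eq]
    show vB 1 * vA x = _
    rw [map_one, one_mul]
  have h2 : τ'.comp e = RingHom.id L := IsLocalization.ringHom_ext Q.primeCompl (Algebra.TensorProduct.ringHom_ext
    (RingHom.ext fun x => by
      show τ' (e (algebraMap _ L (x ⊗ₜ[k] (1 : A'')))) = algebraMap _ L (x ⊗ₜ[k] (1 : A''))
      rw [he]
      show τ' (sK x * uA 1) = _
      rw [map_one, mul_one]
      show τ' (uB (algebraMap (R ⊗[k] K) B (1 ⊗ₜ x))) = _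
      rw [hτ'B, IsLocalization.lift_eq]
      show algebraMap _ L (rR 1 * (x ⊗ₜ[k] (1 : A''))) = _
      rw [map_one, one_mul])
    (IsLocalization.ringHom_ext p'.primeCompl (RingHom.ext fun x => by
      show τ' (e (algebraMap _ L ((1 : K) ⊗ₜ[k] algebraMap A' A'' x))) =
        algebraMap _ L ((1 : K) ⊗ₜ[k] algebraMap A' A'' x)
      rw [he]
      show τ' (sK 1 * uA (algebraMap A' A'' x)) = _
      rw [map_one, one_mul, huA, hτ'A]
      rfl)))
  exact IntBC.Branch.of_ringEquiv (RingEquiv.ofRingHom e τ' h1 h2) (IntBC.branch_field A'' K Q)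

/-- The normalization of a local ring tensored with a localization of the extension of scalars has geometrically
unibranch local rings over the closed point. -/
theorem branch_tensor (k R K A A' B : Type u) [Field k] [CommRing R] [Algebra k R] [Field K] [Algebra k K]
    [CommRing A] [Algebra R A] [CommRing B] [Algebra (R ⊗[k] K) B]
    [Algebra A B] (hAB : ∀ r, algebraMap A B (algebraMap R A r) = algebraMap (R ⊗[k] K) B (r ⊗ₜ[k] 1))
    (p : Ideal R) [p.IsPrime] [IsLocalization.AtPrime A p] (q : Ideal (R ⊗[k] K)) [q.IsPrime]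
    [IsLocalization.AtPrime B q]
    [CommRing A'] [Algebra A A'] (hA' : EGA4.IsNormalRing A')
    (P : Ideal (B ⊗[A] A')) [P.IsPrime] : IntBC.Branch (Localization.AtPrime P) := by
  let p' : Ideal A' := Ideal.comap (Algebra.TensorProduct.includeRight (R := A) (A := B) (B := A')).toRingHom P
  haveI : p'.IsPrime := Ideal.IsPrime.comap _
  haveI := (hA' p').1
  haveI := (hA' p').2
  letI : Algebra k A' := (((algebraMap A A').comp (algebraMap R A)).comp (algebraMap k R)).toAlgebra
  exact branch_tensor_aux k R K A A' (Localization.AtPrime p') B (Localization.AtPrime P) hAB p q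
    (fun a => IsScalarTower.algebraMap_apply k A' (Localization.AtPrime p') a) P p' rfl

/-- The number of geometric branches is invariant under extension of the base field. -/
theorem numGeomBranches_bc (k R K A B : Type u) [Field k] [CommRing R] [Algebra k R] [Field K] [Algebra k K]
    [CommRing A] [IsLocalRing A] [IsNoetherianRing A] [Algebra R A]
    [CommRing B] [IsLocalRing B] [IsNoetherianRing B] [Algebra (R ⊗[k] K) B]
    (p : Ideal R) [p.IsPrime] [IsLocalization.AtPrime A p] (q : Ideal (R ⊗[k] K)) [q.IsPrime]
    [IsLocalization.AtPrime B q] (hq : Ideal.comap (algebraMap R (R ⊗[k] K)) q = p) :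
    Brnch.numGeomBranches A = Brnch.numGeomBranches B := by
  let g : R →+* B := (algebraMap (R ⊗[k] K) B).comp (algebraMap R (R ⊗[k] K))
  letI : Algebra R B := g.toAlgebra
  haveI : IsScalarTower R (R ⊗[k] K) B := IsScalarTower.of_algebraMap_eq' rfl
  let φ : A →+* B := IsLocalization.lift (M := p.primeCompl) (g := g) fun m =>
    IsLocalization.map_units B (⟨algebraMap R (R ⊗[k] K) m, fun h => m.2 (show (m : R) ∈ p from hq ▸ h)⟩ : q.primeCompl)
  letI : Algebra A B := φ.toAlgebra
  haveI : IsScalarTower R A B := IsScalarTower.of_algebraMap_eq fun r => (IsLocalization.lift_eq _ r).symm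
  haveI : Module.Flat (R ⊗[k] K) B := IsLocalization.flat B q.primeCompl
  haveI : Module.Flat R B := Module.Flat.trans R (R ⊗[k] K) B
  haveI : Module.Flat A B := (Module.flat_iff_of_isLocalization A p.primeCompl B).2 inferInstance
  haveI : IsLocalHom (algebraMap A B) := ⟨fun z hz => by
    obtain ⟨x, s, rfl⟩ := IsLocalization.exists_mk'_eq p.primeCompl z
    rw [IsLocalization.AtPrime.isUnit_mk'_iff A p]
    intro hx
    have h := hz.mul ((IsLocalization.map_units A s).map (algebraMap A B))
    rw [← map_mul, IsLocalization.mk'_spec, ← IsScalarTower.algebraMap_apply R A B] at h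
    exact (IsLocalization.AtPrime.isUnit_to_map_iff B q _).1 h (show x ∈ Ideal.comap _ q from hq.symm ▸ hx)⟩
  refine numGeomBranches_eq_of_branch A B (BrnchLib.minimalPrimes_finite' A) (BrnchLib.minimalPrimes_finite' B)
    fun P _ _ => ?_
  exact branch_tensor k R K A (CAlg2.normRed A) B
    (fun r => (IsScalarTower.algebraMap_apply R A B r).symm) p q (BrnchLib.isNormalRing_normRed A) P

end Groth.Agent.BranchBC
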